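import Cfsg.Agent.S5630
import Cfsg.Agent.H915.SLWrap
set_option linter.all false

/-!
# The maximal subgroups of `SL_n(q)`, `n ≥ 3`
-/

set_option autoImplicit false

namespace Cfsg.Agent.H915

open Matrix Cfsg Cfsg.Geo

/-- **The maximal subgroups of `SL_n(F)`, `n ≥ 3`**: each type with equality `H = M ⊓ SL_n(F)`. -/
theorem sl_cases {F : Type*} [Field F] [Fintype F] {n : ℕ} (hn : 3 ≤ n) {H : Subgroup (GL (Fin n) F)}
    (hH : IsMaximalIn (specialLinear (Fin n) F) H) :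
    (∃ W : Submodule F (Fin n → F), W ≠ ⊥ ∧ W ≠ ⊤ ∧
      H = subspaceStabilizer W ⊓ specialLinear (Fin n) F) ∨
    (∃ (t m : ℕ) (D : Fin t → Submodule F (Fin n → F)), t * m = n ∧ IsMDecomposition m D ∧
      (m = 1 → 5 ≤ Fintype.card F) ∧ (m = 2 → Fintype.card F ≠ 2) ∧
      H = decompositionStabilizer D ⊓ specialLinear (Fin n) F) ∨
    (∃ (r : ℕ) (K : Subalgebra F (Matrix (Fin n) (Fin n) F)), r.Prime ∧ r ∣ n ∧
      IsFieldSubalgebra r K ∧ H = subalgebraNormalizer K ⊓ specialLinear (Fin n) F) ∨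
    (∃ (n₁ n₂ : ℕ) (e : Fin n ≃ Fin n₁ × Fin n₂) (P : GL (Fin n) F), 2 ≤ n₁ ∧ n₁ < n₂ ∧
      n₁ * n₂ = n ∧ (n₁ = 2 → Fintype.card F ≠ 2) ∧
      H = tensorProductSubgroup n₁ n₂ e P ⊓ specialLinear (Fin n) F) ∨
    (∃ (F₀ : Subfield F) (r : ℕ) (P : GL (Fin n) F), r.Prime ∧ Fintype.card F = Nat.card F₀ ^ r ∧
      H = subfieldSubgroup F₀ P ⊓ specialLinear (Fin n) F) ∨
    (∃ (r k p e : ℕ) (R : Subgroup (GL (Fin n) F)), IsLinearSymplecticTypeData r R ∧ r.Prime ∧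
      Odd r ∧ Odd e ∧ 1 ≤ k ∧ n = r ^ k ∧ r ≠ p ∧ IsMinimalFieldFor r p e F ∧
      Nat.card (Subgroup.center R) = r ∧ Nat.card R = r ^ (1 + 2 * k) ∧
      H = subgroupNormalizer R ⊓ specialLinear (Fin n) F) ∨
    (∃ (k : ℕ) (R : Subgroup (GL (Fin n) F)), IsLinearSymplecticTypeData 2 R ∧ n = 2 ^ k ∧
      (Fintype.card F).Prime ∧ Fintype.card F % 4 = 1 ∧
      Nat.card (Subgroup.center R) = 4 ∧ Nat.card R = 2 ^ (2 + 2 * k) ∧
      H = subgroupNormalizer R ⊓ specialLinear (Fin n) F) ∨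
    (∃ (m t : ℕ) (e : Fin n ≃ (Fin t → Fin m)) (P : GL (Fin n) F), 3 ≤ m ∧ 2 ≤ t ∧ m ^ t = n ∧
      H = tensorWreathSubgroup m t e P ⊓ specialLinear (Fin n) F) ∨
    (∃ f : (Fin n → F) → (Fin n → F) → F, IsSymplecticForm f ∧ Even n ∧ 4 ≤ n ∧
      H = similarityGroup f ⊓ specialLinear (Fin n) F) ∨
    (∃ (σ : F ≃+* F) (f : (Fin n → F) → (Fin n → F) → F), IsUnitaryForm σ f ∧
      H = similarityGroup f ⊓ specialLinear (Fin n) F) ∨
    (Odd (Fintype.card F) ∧ ∃ Q : (Fin n → F) → F, IsNondegenerateQuadraticForm Q ∧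
      H = quadSimilarityGroup Q ⊓ specialLinear (Fin n) F) ∨
    InLinearResidualClass H := 
  sl_cases_of hn hH (S5630.result n hn H hH.1.le
    (H905.sup_scalars_ne_of_isMaximalIn (by rwa [Fintype.card_fin]) hH))

end Cfsg.Agent.H915
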